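import Cfsg.Agent.H564.U.FundD

/-!
# The tables of minors for `G2`, `F4`, `E8` (helper564)
-/

set_option autoImplicit false

namespace Cfsg.Agent.H564.U

open Cfsg Cfsg.Lie Cfsg.Lie.ChevalleyDatum
open Cfsg.Agent.H130.U.MinDef

instance decEntOk (e : Ent) (D : ChevalleyDatum) (l : ℕ) (Xs : List (List ℕ)) (i : Fin l) : Decidable (e.Ok D l Xs i) := by
  unfold Ent.Ok
  infer_instance

/-- `G2` -/
def tabG2 : Fin 2 → Ent := ![⟨[[11, 10]], [[11, 10, 9]], [[11, 10]], 3⟩, ⟨[], [[11]], [[11]], 1⟩]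

theorem ok_G2 : ∀ i, (tabG2 i).Ok chevG2 2 xsG2 i := by decide +kernel

/-- `F4` -/
def tabF4 : Fin 4 → Ent := ![
  ⟨[[47, 46, 45]], [[47, 46, 45, 44]], [[47, 46, 45, 44, 43, 42, 41]], 7⟩,
  ⟨[[47, 46, 45]], [[47, 46, 45, 44, 40]], [[47, 46, 45]], 2⟩,
  ⟨[], [[47, 46]], [[47, 46]], 1⟩,
  ⟨[], [[47]], [[47]], 1⟩]

theorem ok_F4 : ∀ i, (tabF4 i).Ok chevF4 4 xsF4 i := by decide +kernel

/-- `E8` -/
def tabE8 : Fin 8 → Ent := ![
  ⟨[[239, 238, 237, 236, 235, 234], [239, 238, 237, 236, 235, 234]],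
    [[239, 238, 237, 236, 235, 234, 233], [239, 238, 237, 236, 235, 234, 232]],
    [[239, 238, 237, 236, 235, 234, 233, 232, 231, 230, 229, 228, 227, 226]], 7⟩,
  ⟨[[239, 238, 237, 236, 235, 234], [239, 238, 237, 236, 235, 234]],
    [[239, 238, 237, 236, 235, 234, 233, 225], [239, 238, 237, 236, 235, 234, 232]],
    [[239, 238, 237, 236, 235, 234, 233, 225]], 3⟩,
  ⟨[[239, 238, 237, 236, 235, 234, 233, 225], [239, 238, 237, 236, 235, 234, 232]],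
    [[239, 238, 237, 236, 235, 234], [239, 238, 237, 236, 235, 234], [239, 238, 237, 236, 235, 234]],
    [[239, 238, 237, 236, 235, 234, 232]], 2⟩,
  ⟨[], [[239, 238, 237, 236, 235]], [[239, 238, 237, 236, 235]], 1⟩,
  ⟨[], [[239, 238, 237, 236]], [[239, 238, 237, 236]], 1⟩,
  ⟨[], [[239, 238, 237]], [[239, 238, 237]], 1⟩,
  ⟨[], [[239, 238]], [[239, 238]], 1⟩,
  ⟨[], [[239]], [[239]], 1⟩]

theorem ok_E8 : ∀ i, (tabE8 i).Ok chevE8 8 xsE8 i := by decide +kernel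

end Cfsg.Agent.H564.U
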