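import Cfsg.Agent.H564.U.FTab
import Cfsg.Agent.H421.UniE.SDat
import Cfsg.Agent.H944.TorAnyChev
import Cfsg.Agent.H944.RootVals

/-!
# Theorem (U) for `D.group F` (helper564)
-/

set_option autoImplicit false
set_option linter.unusedSectionVars false

namespace Cfsg.Agent.H564.U

open Cfsg Cfsg.Lie Cfsg.Lie.ChevalleyDatum
open Cfsg.Agent.ChevalleyStructure Cfsg.Agent.ChevalleyStructure.Elts Cfsg.Agent.Nodes.RGDChev
  Cfsg.Agent.KFacts.RgdChevCoord Cfsg.Agent.H129.TorusChar Cfsg.Agent.H45.UniE Cfsg.Agent.H405.UE Cfsg.Agent.H421.UniE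
  Cfsg.Agent.Tits.Roots

universe u v

variable {D : ChevalleyDatum} {l : ℕ} {M : CoxeterMatrix (Fin l)} (hp : IsType D l M)

theorem bc_std {F k : Type v} [Field F] [Field k] [Algebra F k] :
    (sdat hp F).Bc (gdat hp k) (bcC hp.inList (algebraMap F k)) where
  x i s := by
    show bcC hp.inList (algebraMap F k) (xe hp i s) = xc hp (sr i) (algebraMap F k s)
    rw [bcC_xe, zz_simple]
    rfl
  y i s := by
    show bcC hp.inList (algebraMap F k) (ye hp i s) = xc hp (-sr i) (algebraMap F k s)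
    rw [bcC_ye, zz_neg_simple]
    rfl
  z b s := by
    show bcC hp.inList (algebraMap F k) (ze hp.inList b s) = zz hp b.1 (algebraMap F k s)
    rw [bcC_ze]
    rfl
  w b s := by
    refine ⟨algebraMap F k s, ?_⟩
    show bcC hp.inList (algebraMap F k) (we hp.inList b s) = tau hp (zz hp b.1 (algebraMap F k s))
    rw [bcC_we, tau_zz hp b.2.1]
    rfl
  hh i b := by
    show bcC hp.inList (algebraMap F k) (he hp i b) = hc hp i ((Units.map (algebraMap F k).toMonoidHom b : kˣ) : k)
    rw [bcC_he]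
    rfl

/-- **Theorem (U)** from a vertex pair for the minors -/
theorem fixAll_of_vtxA {Xs : List (List ℕ)} {tab : Fin l → Ent} (htab : ∀ i, (tab i).Ok D l Xs i)
    {F : Type v} [Field F] [Fintype F] {p : ℕ} [Fact p.Prime] [CharP F p]
    (hv : VtxA hp (AlgebraicClosure F) Xs) (x : ↥(D.group F)) (hx : (orderOf x).Coprime p) :
    H425.KFix.FixAll.{u} p x := by
  let k := AlgebraicClosure F
  have hck : CharP k p := charP_of_injective_algebraMap (algebraMap F k).injective p
  have hA := H944.RootVals.hAlg_closure p F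
  obtain ⟨F0, hF0, ⟨V⟩⟩ := exists_fdat hp k htab hv
  have hbc : (sdat hp F).Bc F0.toGDat (bcC hp.inList (algebraMap F k)) := by
    rw [hF0]
    exact bc_std hp
  have hx0 : orderOf x ≠ 0 := (orderOf_pos x).ne'
  obtain ⟨g, hg⟩ := H944.TorAnyChev.exists_conj_mem_TT hp p hA (x := bcC hp.inList (algebraMap F k) x) hx0 hx
    (by rw [← map_pow, pow_orderOf_eq_one, map_one])
  exact fixAll_of hbc (isPGroup_Up hp) (isPGroup_Um hp) (fun W _ _ => wt hp (p := p)) (fun W _ _ => neg hp (p := p)) V x hx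
    hg (g0 := g⁻¹) (by group)

end Cfsg.Agent.H564.U
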