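import Cfsg.Agent.H564.U.Main
import Cfsg.Agent.H887.VX.F4

/-!
# Theorem (U) for `F4(q)`, all `q` (TEAM U-EXC)
-/

set_option autoImplicit false

namespace Cfsg.Agent.H564.U

open Cfsg Cfsg.Lie

universe u v

/-- **Theorem (U) for `F4(q)`**: in every nonzero finite module in the characteristic `p` of `F`, every element of
order prime to `p` has a nonzero fixed vector. -/
theorem fixAll_F4 {F : Type v} [Field F] [Fintype F] {p : ℕ} [Fact p.Prime] [CharP F p]
    (x : ↥(chevF4.group F)) (hx : (orderOf x).Coprime p) : H425.KFix.FixAll.{u} p x :=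
  fixAll_of_vtxA Cfsg.Agent.Nodes.KindF.isType ok_F4 (Cfsg.Agent.H887.VX.F4.vtx _) x hx

end Cfsg.Agent.H564.U
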