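import Cfsg.Agent.H564.U.VtxG2Data

/-!
# The vertex condition for `G2`, characteristic `≠ 2` (helper564, with the engine of helper958)
-/

set_option autoImplicit false

namespace Cfsg.Agent.H564.U.VtxG2

open Cfsg Cfsg.Lie Cfsg.Agent.H958.UE.Engine Cfsg.Agent.Nodes.RGDChev

universe u

theorem type_G2 : IsType chevG2 2 CoxeterMatrix.G₂ := by simp [IsType, typeList]

theorem res_pm : ∀ e ∈ res, e.2 = 1 ∨ e.2 = -8 ∨ e.2 = 16 := by decide

/-- **the vertex condition for `G2`**, any field of characteristic `≠ 2` -/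
theorem vtx (k : Type u) [Field k] (h2 : (2 : k) ≠ 0) :
    Cfsg.Agent.H564.U.VtxA type_G2 k Cfsg.Agent.H564.U.xsG2 := by
  have h8 : (-8 : k) ≠ 0 := by
    have : (-8 : k) = -(2 ^ 3) := by norm_num
    rw [this]
    exact neg_ne_zero.mpr (pow_ne_zero _ h2)
  have h16 : (16 : k) ≠ 0 := by
    have : (16 : k) = 2 ^ 4 := by norm_num
    rw [this]
    exact pow_ne_zero _ h2
  have h := vtx_of_cert type_G2 (k := k) tab_h tab_g coc rfl rfl min (fun e he => by
    rcases res_pm e he with h | h | h <;> rw [h]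
    · simp
    · push_cast
      exact h8
    · push_cast
      exact h16)
  exact h

end Cfsg.Agent.H564.U.VtxG2
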