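import Cfsg.Agent.H564.U.Main
import Cfsg.Agent.H564.U.VtxG2

/-!
# Theorem (U) for `G2(q)`, `q` odd (TEAM U-EXC)
-/

set_option autoImplicit false

namespace Cfsg.Agent.H564.U

open Cfsg Cfsg.Lie

universe u v

/-- **Theorem (U) for `G2(q)`**, `q` odd: in every nonzero finite module in the characteristic `p` of `F`, every element
of order prime to `p` has a nonzero fixed vector. -/
theorem fixAll_G2 {F : Type v} [Field F] [Fintype F] {p : ℕ} [Fact p.Prime] [CharP F p] (h2 : p ≠ 2)
    (x : ↥(chevG2.group F)) (hx : (orderOf x).Coprime p) : H425.KFix.FixAll.{u} p x := by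
  have hck : CharP (AlgebraicClosure F) p :=
    charP_of_injective_algebraMap (algebraMap F (AlgebraicClosure F)).injective p
  have h2' : (2 : AlgebraicClosure F) ≠ 0 := by
    intro h0
    have h1 : ((2 : ℕ) : AlgebraicClosure F) = 0 := by exact_mod_cast h0
    rw [CharP.cast_eq_zero_iff (AlgebraicClosure F) p] at h1
    exact h2 ((Nat.prime_dvd_prime_iff_eq Fact.out Nat.prime_two).1 h1)
  exact fixAll_of_vtxA VtxG2.type_G2 ok_G2 (VtxG2.vtx _ h2') x hx

end Cfsg.Agent.H564.U
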