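import Cfsg.Agent.H564.U.Cell
import Cfsg.Agent.H564.U.Def
import Cfsg.Agent.H130.U.MinDef
import Cfsg.Agent.H45.UniE.Main

/-!
# The fundamental functions of `D.group k` by root extraction (helper564)

* `Std hp k D0` : the group data `D0` on `D.group k` is the standard one;
* `exists_fund` : the fundamental functions, from a table `Ent` of minors (one line per node);
* `FTab` : such tables; `ftabG2`, `ftabF4`, `ftabE8`.
-/

set_option autoImplicit false
set_option linter.unusedSectionVars false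

namespace Cfsg.Agent.H564.U

open Cfsg Cfsg.Lie Cfsg.Lie.ChevalleyDatum Polynomial
open Cfsg.Agent.ChevalleyStructure.Elts Cfsg.Agent.Nodes.RGDChev Cfsg.Agent.KFacts.RgdChevCoord
  Cfsg.Agent.H129.TorusChar Cfsg.Agent.Tits.Roots Cfsg.Agent.ChevalleyStructure.CoxeterGeom
  Cfsg.Agent.ChevalleyStructure.CoxeterGeomTypes Cfsg.Agent.H45.UniE Cfsg.Agent.H130.U.MinDef

universe u

/-! ### tables -/

/-- one line of a table: `Δ * ∏ A = ∏ B`, `(∏ B) ^ N = ∏ E * (∏ A) ^ N` -/
structure Ent where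
  A : List (List ℕ)
  B : List (List ℕ)
  E : List (List ℕ)
  N : ℕ

/-- weight of a product of minors -/
def lwt (D : ChevalleyDatum) (l : ℕ) (L : List (List ℕ)) : Fin l → ℤ := (L.map (mwt D l)).sum

/-- `e` is a line for the fundamental function of node `i`; `Xs` are the minors allowed in `A` and `B` -/
def Ent.Ok (e : Ent) (D : ChevalleyDatum) (l : ℕ) (Xs : List (List ℕ)) (i : Fin l) : Prop :=
  e.N ≠ 0 ∧ (∀ X ∈ e.A, X ∈ Xs) ∧ (∀ X ∈ e.B, X ∈ Xs) ∧ (∀ X ∈ e.A, Good D X) ∧ (∀ X ∈ e.B, Good D X) ∧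
    (∀ X ∈ e.E, Good D X) ∧
    (∀ a, (e.N : ℤ) * lwt D l e.B a = lwt D l e.E a + (e.N : ℤ) * lwt D l e.A a) ∧
    ∀ j, pairing (cartanOf D l) j (fun a => lwt D l e.B a - lwt D l e.A a) = if i = j then 1 else 0

/-! ### the standard group data -/

section std

variable {D : ChevalleyDatum} {l : ℕ} {M : CoxeterMatrix (Fin l)} (hp : IsType D l M) (k : Type u) [Field k]
  {Φ : Type*}

/-- `D0` is the standard group data on `D.group k` -/
structure Std (D0 : GDat (Fin l) Φ k ↥(D.group k)) : Prop where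
  z : ∀ b, ∃ r, D.IsPosRoot r ∧ ∀ s, D0.z b s = zz hp r s
  τz : ∀ b s, ∃ r, D.IsPosRoot r ∧ ∃ s', D0.τ (D0.z b s) = zz hp (D.neg r) s'
  y : ∀ i, ∃ r, ∀ s, D0.y i s = zz hp r s
  T : D0.T = TT D k
  hh : ∀ i (c : kˣ) v, cX hp (D0.hh i c) v = ((c ^ pairing (cartanOf D l) i v : kˣ) : k)
  δ : Alg (zz hp) D0.δ
  δX : ∃ f : (Fin l → ℤ) → ℤ, ∀ (s : kˣ) v, cX hp (D0.δ s) v = ((s ^ f v : kˣ) : k)

variable {hp k} {D0 : GDat (Fin l) Φ k ↥(D.group k)} (S : Std hp k D0)

/-- cell functions whose character is a weight -/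
def IsW (D0 : GDat (Fin l) Φ k ↥(D.group k)) (f : ↥(D.group k) → k) (v : Fin l → ℤ) : Prop :=
  IsCell D0 (zz hp) f (fun t => cX hp t v)

include S

theorem Std.mnr_cell {X : List ℕ} (hX : Good D X) : IsW (hp := hp) D0 (mnr D X) (mwt D l X) where
  pol := isPol_mnr hp hX.2.1
  cell v hv t ht u hu := by
    have h1 : ∀ u ∈ D0.U, ∀ g, mnr D X (g * u) = mnr D X g := by
      intro u hu
      unfold GDat.U at hu
      induction hu using Subgroup.closure_induction with
      | mem u hu =>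
        obtain ⟨b, s, rfl⟩ := hu
        obtain ⟨r, hr, hz⟩ := S.z b
        intro g
        rw [hz]
        exact mnr_zz hp hX hr s g
      | one => intro g; rw [mul_one]
      | mul a b _ _ h1 h2 => intro g; rw [← mul_assoc, h2, h1]
      | inv a _ h1 => intro g; rw [← h1 (g * a⁻¹), inv_mul_cancel_right]
    have h2 : ∀ v ∈ D0.Um, ∀ g, mnr D X (v * g) = mnr D X g := by
      intro v hv
      unfold GDat.Um at hv
      induction hv using Subgroup.closure_induction with
      | mem v hv =>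
        obtain ⟨b, s, rfl⟩ := hv
        obtain ⟨r, hr, s', hz⟩ := S.τz b s
        intro g
        rw [hz]
        exact mnr_zz_neg hp hX hr s' g
      | one => intro g; rw [one_mul]
      | mul a b _ _ h1 h2 => intro g; rw [mul_assoc, h1, h2]
      | inv a _ h1 => intro g; rw [← h1 (a⁻¹ * g), mul_inv_cancel_left]
    rw [h1 u hu, h2 v hv]
    rw [S.T] at ht
    have h3 := mnr_tl hp hX ht 1
    rw [mul_one, mnr_one hX, mul_one] at h3
    exact h3

theorem Std.isMC {t : ↥(D.group k)} (ht : t ∈ D0.T) : IsMC (cX hp t) := isMC_cX hp (by rwa [S.T] at ht)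

theorem Std.one : IsW (hp := hp) D0 (fun _ => 1) 0 where
  pol := IsPol.const 1
  cell v hv t ht u hu := ((S.isMC ht).zero).symm

theorem Std.mul {f f' : ↥(D.group k) → k} {v v' : Fin l → ℤ} (h : IsW (hp := hp) D0 f v)
    (h' : IsW (hp := hp) D0 f' v') : IsW (hp := hp) D0 (fun g => f g * f' g) (v + v') :=
  (IsCell.mul h h').congr fun t ht => ((S.isMC ht).add v v').symm

/-- product of minors -/
noncomputable def lprod (D : ChevalleyDatum) {k : Type u} [Field k] (L : List (List ℕ)) (g : ↥(D.group k)) : k :=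
  (L.map fun X => mnr D X g).prod

theorem Std.lprod_cell {L : List (List ℕ)} (hL : ∀ X ∈ L, Good D X) :
    IsW (hp := hp) D0 (lprod D L) (lwt D l L) := by
  induction L with
  | nil => exact S.one
  | cons X L ih =>
    exact S.mul (S.mnr_cell (hL X List.mem_cons_self)) (ih fun Y hY => hL Y (List.mem_cons_of_mem _ hY))

variable [Infinite k]

/-- **the fundamental functions** -/
theorem Std.exists_fund {Xs : List (List ℕ)} {i : Fin l} {e : Ent} (he : e.Ok D l Xs i) :
    ∃ c : ↥(D.group k) → k, IsW (hp := hp) D0 c (fun a => lwt D l e.B a - lwt D l e.A a) ∧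
      ∀ g, lprod D e.B g = c g * lprod D e.A g := by
  obtain ⟨hN, -, -, hA, hB, hE, hw, -⟩ := he
  obtain ⟨c, hc, hc2⟩ := IsCell.root (zz_zero hp) (zz_gen hp) S.y hN (S.lprod_cell hA) (S.lprod_cell hB)
    (S.lprod_cell hE) (fun t ht => (S.isMC ht).ne_zero _) (fun t ht => by
      rw [← (S.isMC ht).nsmul, ← (S.isMC ht).nsmul, ← (S.isMC ht).add]
      congr 1
      funext a
      have := hw a
      simpa [Pi.add_apply, Pi.smul_apply] using this)
  refine ⟨c, hc.congr fun t ht => ?_, hc2⟩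
  rw [← (S.isMC ht).sub]
  rfl

end std

end Cfsg.Agent.H564.U
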