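import Cfsg.Agent.H564.TW.Val3
import Cfsg.Agent.H925.TW.Tor

/-!
# Theorem (U) for `2F4(q)`, `q = 2 ^ (2 m + 1) ≥ 8` (TEAM U-EXC)
-/

set_option autoImplicit false

namespace Cfsg.Agent.H564.U

open Cfsg Cfsg.Lie Cfsg.Agent.H564.TW Cfsg.Agent.H45.UniE Cfsg.Agent.H405.UE
open Cfsg.Agent.ChevalleyStructure.TwF4.TwistedFix (Rln exists_rln)
open Cfsg.Agent.KFacts.TwF4.Inst (ro re full)
open Cfsg.Agent.H203.TW (tw exists_cls low_split_tw)

universe u v

/-- the hypotheses of the assembly -/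
theorem hyp_F4 {K : Type v} [Field K] [CharP K 2] [Fintype K] {φ : K →+* K} {m : ℕ} (hm : 1 ≤ m)
    (hK : Fintype.card K = 2 ^ (2 * m + 1)) (hφ : Rln φ (2 ^ m)) {k : Type v} [Field k] [CharP k 2] [Infinite k]
    [Algebra K k] {F : FDat (Fin 4) (PR chevF4) k ↥(chevF4.group k)} (hF : F.toGDat = gdat Nodes.KindF.isType k)
    (hq : Cmq F.toGDat (qF m)) : Hyp (sysF hK hφ) F (tw K k (2 ^ m)) orb (ee m) (qF m) where
  map := map_F hF hm hK hφ
  Up := Cfsg.Agent.H421.TW.isPGroup_P _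
  Um := Cfsg.Agent.H421.TW.isPGroup_Q _
  qq_pos := qF_pos m
  cmq := hq
  low l hl f hf h1 n hlow := by
    have hcard : Fintype.card K = 2 ^ m * 2 ^ (m + 1) := by
      rw [hK, ← pow_add]
      congr 1
      omega
    set S := full hK hφ with hS
    have hUo : ∀ a < 4, ∀ t, ro hφ ((a : ℕ) : ZMod 8) t ∈ (sysF hK hφ).U := by
      intro a ha t
      have h2 := S.o_mem (a : ℤ) t
      have h3 : S.o ((a : ℤ) : ZMod 8) t = ro hφ ((a : ℕ) : ZMod 8) t := by
        rw [Int.cast_natCast]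
        rfl
      rw [h3] at h2
      exact Cfsg.Agent.SplitTwo.ZS.X_le_J (X := S.XZ) (a := 1) (b := 8) (by omega) (by omega) h2
    have hUe : ∀ a < 4, ∀ p u, re hφ (((a + 1 : ℕ)) : ZMod 8) p u ∈ (sysF hK hφ).U := by
      intro a ha p u
      have h2 := S.e_mem ((a + 1 : ℕ) : ℤ) p u
      have h3 : S.e (((a + 1 : ℕ) : ℤ) : ZMod 8) p u = re hφ ((a + 1 : ℕ) : ZMod 8) p u := by
        rw [Int.cast_natCast]
        rfl
      rw [h3] at h2
      exact Cfsg.Agent.SplitTwo.ZS.X_le_J (X := S.XZ) (a := 1) (b := 8) (by push_cast; omega) (by push_cast; omega) h2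
    refine low_split_tw (datQ F (qF m) l hl (qF_pos m) hq) hcard (fun c => ?_) f hf h1 n hlow
    have h2 := exists_cls (k := k) hm hφ hUo hUe c
    have h3 : ∀ D0 : GDat (Fin 4) (PR chevF4) k ↥(chevF4.group k), D0 = gdat Nodes.KindF.isType k →
        ∃ T : Cfsg.Agent.H203.TW.TwCls D0 K ((sysF hK hφ).U.map (tw K k (2 ^ m))) (2 ^ m) (2 ^ (m + 1)),
          (c = T.a ∧ qF m c = 2 ^ m) ∨ (c = T.b ∧ qF m c = 2 ^ (m + 1)) := by
      rintro _ rfl
      exact h2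
    exact h3 F.toGDat hF
  lam a ha := by
    obtain ⟨l, h1, h2⟩ := lam_F4 m a (fun j => hK ▸ ha j)
    refine ⟨l, fun i => ?_, h2⟩
    show l i < qF m (F.toGDat.zi i)
    rw [hF]
    exact h1 i

/-- **Theorem (U) for `2F4(q)`**, `q = 2 ^ (2 m + 1) ≥ 8`: in every nonzero finite module in characteristic two, every
element of odd order has a nonzero fixed vector. -/
theorem fixAll_2F4 {K : Type v} [Field K] [Fintype K] {m : ℕ} (hm : 1 ≤ m) (hK : Fintype.card K = 2 ^ (2 * m + 1))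
    (x : ↥(twistedF4 K (2 ^ m))) (hx : (orderOf x).Coprime 2) : H425.KFix.FixAll.{u} 2 x := by
  haveI : CharP K 2 := Cfsg.Agent.ChevalleyStructure.TwF4.Twisted.charP_two hK
  obtain ⟨φ, hφ⟩ := exists_rln hK
  let k := AlgebraicClosure K
  have hck : CharP k 2 := charP_of_injective_algebraMap (algebraMap K k).injective 2
  obtain ⟨F, hF, ⟨V⟩, hq⟩ := exists_fdat_F4 k
  have h := hyp_F4 hm hK hφ hF (hq m)
  obtain ⟨g, t, ht, hgt⟩ := Cfsg.Agent.H925.TW.conj_TT_F4 (F := K) (tw K k (2 ^ m)) x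
    (Nat.Coprime.odd_of_right hx)
  exact fixAll_tw h (fun W _ _ => TSys.wt_reparam _ (Cfsg.Agent.H421.TW.wt _)) V x hx ht hgt

end Cfsg.Agent.H564.U
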