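import Cfsg.Agent.H958.UE.Engine

/-!
# The vertex condition for `chevG2`: data (generated by tools/vtx_cert.py, helper958)
-/

set_option autoImplicit false

namespace Cfsg.Agent.H564.U.VtxG2

open Cfsg Cfsg.Lie Cfsg.Agent.H958.UE.Engine

/-- the word of `g` -/
def wg : List (ℕ × ℤ) := [(2, 1), (0, 1)]

/-- the word of `h` -/
def wh : List (ℕ × ℤ) := [(6, 1), (5, -1), (6, 1), (7, 1), (4, -1), (7, 1), (6, 1), (7, 1)]

/-- the coefficients of the cocharacter -/
def ell : List ℤ := [-5, -5]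

/-- its values on the fundamental roots -/
def nn : List ℤ := [-5, 5]

/-- columns of the word `wg` -/
def tg : List (ℕ × List (ℕ × ℤ)) := [
  (13, [(3, -1), (6, -1), (10, -1), (13, 1), (2, -1), (4, -1), (0, -1), (1, -2)]),
  (12, [(2, 1), (5, 1), (9, -1), (12, 1), (7, -1)]),
  (11, [(1, -3), (0, -2), (4, -1), (11, 1), (2, -3), (5, -1)])]

/-- columns of the word `wh` -/
def th : List (ℕ × List (ℕ × ℤ)) := [
  (0, [(5, 2), (1, -3), (0, -1), (11, -2), (13, 3)]),
  (1, [(5, -1), (1, 2), (11, 1), (13, -2), (0, 1)]),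
  (2, [(8, -1), (3, -1)]),
  (3, [(2, -1), (6, -1), (4, -1), (8, 1), (0, -1), (1, -2), (10, -1), (13, 1)]),
  (4, [(2, 3), (4, 2), (0, 3), (6, 1), (1, 6), (10, 2), (13, -3)]),
  (5, [(0, 3), (2, 3), (4, 1), (1, 6), (10, 1), (13, -3)]),
  (6, [(5, 1), (10, -1), (11, -1), (13, 3), (1, -3), (0, -1)]),
  (7, [(1, 2), (0, 1), (13, -1), (2, 1)]),
  (9, [(11, 1), (5, -1)]),
  (10, [(7, -3), (9, -2), (11, 1), (12, 3)]),
  (11, [(7, 3), (9, 1), (12, -3)]),
  (12, [(12, -1), (7, 1)]),
  (13, [(12, -1)])]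

/-- the minors and their constant coefficients -/
def res : List (List ℕ × ℤ) := [
  ([11], 1),
  ([11, 10], -8),
  ([11, 10, 9], 16)]

set_option maxRecDepth 100000 in
theorem tab_g : tabOK chevG2 wg tg = true := by decide +kernel

set_option maxRecDepth 100000 in
theorem tab_h : tabOK chevG2 wh th = true := by decide +kernel

set_option maxRecDepth 100000 in
theorem coc : cocOK chevG2 ell nn = true := by decide +kernel

set_option maxRecDepth 100000 in
theorem min : minOK chevG2 th tg nn res = true := by decide +kernel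

end Cfsg.Agent.H564.U.VtxG2
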